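import Groth.Agent.Ega4Algebra1.PdBasic
import Groth.Agent.Misc8.FibreSquare
import Mathlib.RingTheory.IsTensorProduct
import Mathlib.RingTheory.Flat.Equalizer
import Mathlib.RingTheory.Flat.Stability

/-!
If the diagonal of a flat algebra `B` over `A` has finite projective dimension, then `K ⊗ B` has finite
global dimension for every field `K` over `A`.
-/

universe u

open TensorProduct
open Groth.Ega4Algebra1

namespace Groth.FrobLCI.Diag

section BaseChange

variable (A K S S' : Type u) [CommRing A] [CommRing K] [CommRing S] [CommRing S']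
  [Algebra A K] [Algebra A S] [Algebra A S'] [Algebra K S'] [Algebra S S'] [IsScalarTower A K S']
  [IsScalarTower A S S'] [Algebra.IsPushout A K S S']

include K in
/-- One step of base change. -/
theorem baseChange_step {X F P : Type u} [AddCommGroup X] [Module S X] [Module A X] [IsScalarTower A S X]
    [AddCommGroup F] [Module S F] [Module A F] [IsScalarTower A S F]
    [AddCommGroup P] [Module S P] [Module A P] [IsScalarTower A S P] [Module.Flat A P] [Module.Flat A F]
    (ι : X →ₗ[S] F) (f : F →ₗ[S] P) (hι : Function.Injective ι) (hf : Function.Surjective f)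
    (hex : Function.Exact ι f) :
    Module.Flat A X ∧ Nonempty ((S' ⊗[S] X) ≃ₗ[S'] LinearMap.ker (f.baseChange S')) := by
  refine ⟨Groth.Misc8.FibreSquare.flat_of_shortExact (ι.restrictScalars A) (f.restrictScalars A) hι hf hex, ?_⟩
  have hinjK : Function.Injective ((ι.restrictScalars A).lTensor K) :=
    LinearMap.lTensor_injective_of_exact_of_flat (f.restrictScalars A) hf (ι.restrictScalars A) hι hex _
  have hnat : ∀ z, ι.baseChange S' ((Algebra.IsPushout.cancelBaseChange A K S S' X).symm z) =
      (Algebra.IsPushout.cancelBaseChange A K S S' F).symm ((ι.restrictScalars A).lTensor K z) := by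
    intro z
    induction z using TensorProduct.induction_on with
    | zero => simp
    | add a b ha hb => simp only [map_add, ha, hb]
    | tmul k m => simp
  have hinj : Function.Injective (ι.baseChange S') := by
    intro x y hxy
    obtain ⟨x, rfl⟩ := (Algebra.IsPushout.cancelBaseChange A K S S' X).symm.surjective x
    obtain ⟨y, rfl⟩ := (Algebra.IsPushout.cancelBaseChange A K S S' X).symm.surjective y
    rw [hnat, hnat] at hxy
    rw [hinjK ((Algebra.IsPushout.cancelBaseChange A K S S' F).symm.injective hxy)]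
  have hex' : Function.Exact (ι.baseChange S') (f.baseChange S') := lTensor_exact S' hex hf
  exact ⟨(LinearEquiv.ofInjective _ hinj).trans (LinearEquiv.ofEq _ _ (LinearMap.exact_iff.mp hex').symm)⟩

include K in
/-- Base change preserves projective dimension of modules flat over the base. -/
theorem pdLT_baseChange_of_flat [Module.Flat A S] :
    ∀ (n : ℕ) (P : Type u) [AddCommGroup P] [Module S P] [Module A P] [IsScalarTower A S P] [Module.Flat A P],
      PdLT S P (n + 1) → PdLT S' (S' ⊗[S] P) (n + 1) := by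
  intro n
  induction n with
  | zero =>
    intro P _ _ _ _ _ h
    rw [PdLT.one_iff] at h ⊢
    infer_instance
  | succ n ih =>
    intro P _ _ _ _ _ h
    let f : (P →₀ S) →ₗ[S] P := Finsupp.linearCombination S id
    have hf : Function.Surjective f := fun x => ⟨Finsupp.single x 1, by simp [f]⟩
    have : Module.Flat A (P →₀ S) := Module.Flat.trans A S (P →₀ S)
    obtain ⟨hflat, ⟨e⟩⟩ := baseChange_step A K S S' (X := LinearMap.ker f) (F := P →₀ S) (P := P)
      (LinearMap.ker f).subtype f Subtype.val_injective hf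
      (LinearMap.exact_subtype_ker_map f)
    have hK := ih (LinearMap.ker f) ((PdLT.ker_iff f hf n).1 h)
    exact (PdLT.ker_iff (f.baseChange S') (LinearMap.lTensor_surjective S' hf) n).2 (hK.of_equiv e)

end BaseChange

/-- `g ⊗ N` keeps linearity for a commuting left action. -/
noncomputable def upL {L R N X Y : Type u} [CommRing L] [CommRing R] [AddCommGroup N] [Module R N]
    [AddCommGroup X] [Module R X] [Module L X] [SMulCommClass R L X]
    [AddCommGroup Y] [Module R Y] [Module L Y] [SMulCommClass R L Y]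
    (g : X →ₗ[R] Y) (hg : ∀ (l : L) x, g (l • x) = l • g x) : (X ⊗[R] N) →ₗ[L] (Y ⊗[R] N) :=
  { g.rTensor N with
    map_smul' := fun l z => by
      show g.rTensor N (l • z) = l • g.rTensor N z
      induction z using TensorProduct.induction_on with
      | zero => simp
      | add a b ha hb => simp only [smul_add, map_add, ha, hb]
      | tmul x m =>
        rw [TensorProduct.smul_tmul', LinearMap.rTensor_tmul, LinearMap.rTensor_tmul, hg, TensorProduct.smul_tmul'] }

section Bimodule

variable (L S R N : Type u) [CommRing L] [CommRing S] [CommRing R] [Algebra L S] [Algebra R S]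
  [AddCommGroup N] [Module R N]

/-- One step of tensoring a bimodule. -/
theorem tensor_step {X F P : Type u} [AddCommGroup X] [Module S X] [Module L X] [IsScalarTower L S X]
    [Module R X] [IsScalarTower R S X] [SMulCommClass R L X]
    [AddCommGroup F] [Module S F] [Module L F] [IsScalarTower L S F]
    [Module R F] [IsScalarTower R S F] [SMulCommClass R L F]
    [AddCommGroup P] [Module S P] [Module L P] [IsScalarTower L S P]
    [Module R P] [IsScalarTower R S P] [SMulCommClass R L P] [Module.Flat R P] [Module.Flat R F]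
    (ι : X →ₗ[S] F) (f : F →ₗ[S] P) (hι : Function.Injective ι) (hf : Function.Surjective f)
    (hex : Function.Exact ι f) :
    Module.Flat R X ∧ ∀ (n : ℕ), Module.Projective L (F ⊗[R] N) → PdLT L (X ⊗[R] N) (n + 1) →
      PdLT L (P ⊗[R] N) (n + 2) := by
  refine ⟨Groth.Misc8.FibreSquare.flat_of_shortExact (ι.restrictScalars R) (f.restrictScalars R) hι hf hex,
    fun n hF hX => ?_⟩
  have hfL : Function.Surjective ((f.restrictScalars R).rTensor N) :=
    LinearMap.rTensor_surjective N (g := f.restrictScalars R) hf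
  let ιL : (X ⊗[R] N) →ₗ[L] (F ⊗[R] N) :=
    upL (L := L) (ι.restrictScalars R) fun l x => (ι.restrictScalars L).map_smul l x
  have hinj : Function.Injective ιL := by
    have h1 : Function.Injective ((ι.restrictScalars R).lTensor N) :=
      LinearMap.lTensor_injective_of_exact_of_flat (f.restrictScalars R) hf (ι.restrictScalars R) hι hex _
    intro x y hxy
    apply (TensorProduct.comm R _ N).injective
    apply h1
    have hc : ∀ z, (ι.restrictScalars R).lTensor N (TensorProduct.comm R _ N z) =
        TensorProduct.comm R _ N ((ι.restrictScalars R).rTensor N z) := fun z => by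
      induction z using TensorProduct.induction_on with
      | zero => simp
      | add a b ha hb => simp only [map_add, ha, hb]
      | tmul x m => simp
    rw [hc, hc]
    exact congrArg _ hxy
  have hex' : Function.Exact ιL (upL (L := L) (f.restrictScalars R) fun l x => (f.restrictScalars L).map_smul l x :
      (F ⊗[R] N) →ₗ[L] (P ⊗[R] N)) :=
    rTensor_exact (R := R) N (f := ι.restrictScalars R) (g := f.restrictScalars R) hex hf
  exact (PdLT.ker_iff (upL (L := L) (f.restrictScalars R) fun l x => (f.restrictScalars L).map_smul l x :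
      (F ⊗[R] N) →ₗ[L] (P ⊗[R] N)) (fun z => hfL z) n).2
    (hX.of_equiv ((LinearEquiv.ofInjective _ hinj).trans (LinearEquiv.ofEq _ _ (LinearMap.exact_iff.mp hex').symm)))

/-- Tensoring a bimodule of finite projective dimension, flat on the right, with a module. -/
theorem pdLT_tensor [SMulCommClass R L S] [Module.Flat R S] [Module.Projective L (S ⊗[R] N)] :
    ∀ (n : ℕ) (P : Type u) [AddCommGroup P] [Module S P] [Module L P] [IsScalarTower L S P] [Module R P]
      [IsScalarTower R S P] [SMulCommClass R L P] [Module.Flat R P],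
      PdLT S P (n + 1) → PdLT L (P ⊗[R] N) (n + 1) := by
  classical
  have hfree : ∀ ι : Type u, Module.Projective L ((ι →₀ S) ⊗[R] N) := fun ι =>
    haveI : Module.Projective L (ι →₀ S ⊗[R] N) :=
      Module.Projective.of_equiv (finsuppLequivDFinsupp L).symm
    Module.Projective.of_equiv
      ({ TensorProduct.finsuppLeft R R S N ι with
         map_smul' := fun l z => by
           show TensorProduct.finsuppLeft R R S N ι (l • z) = l • TensorProduct.finsuppLeft R R S N ι z
           induction z using TensorProduct.induction_on with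
           | zero => simp
           | add a b ha hb => simp only [smul_add, map_add, ha, hb]
           | tmul x m =>
             rw [TensorProduct.smul_tmul']
             ext i
             simp [TensorProduct.finsuppLeft_apply_tmul_apply, TensorProduct.smul_tmul'] } :
        (ι →₀ S) ⊗[R] N ≃ₗ[L] (ι →₀ S ⊗[R] N)).symm
  intro n
  induction n with
  | zero =>
    intro P _ _ _ _ _ _ _ _ h
    rw [PdLT.one_iff] at h ⊢
    let f : (P →₀ S) →ₗ[S] P := Finsupp.linearCombination S id
    have hf : Function.Surjective f := fun x => ⟨Finsupp.single x 1, by simp [f]⟩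
    obtain ⟨s, hs⟩ := Module.projective_lifting_property f LinearMap.id hf
    have := hfree P
    refine Module.Projective.of_split (upL (L := L) (s.restrictScalars R) fun l x => (s.restrictScalars L).map_smul l x)
      (upL (L := L) (f.restrictScalars R) fun l x => (f.restrictScalars L).map_smul l x :
        ((P →₀ S) ⊗[R] N) →ₗ[L] (P ⊗[R] N)) ?_
    refine LinearMap.ext fun z => ?_
    induction z using TensorProduct.induction_on with
    | zero => simp
    | add a b ha hb => simp only [map_add, ha, hb]
    | tmul x m => simp [upL, show f (s x) = x from LinearMap.congr_fun hs x]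
  | succ n ih =>
    intro P _ _ _ _ _ _ _ _ h
    let f : (P →₀ S) →ₗ[S] P := Finsupp.linearCombination S id
    have hf : Function.Surjective f := fun x => ⟨Finsupp.single x 1, by simp [f]⟩
    have : SMulCommClass R L (LinearMap.ker f) :=
      ⟨fun r l x => Subtype.ext (smul_comm r l (x : P →₀ S))⟩
    have : Module.Flat R (P →₀ S) := Module.Flat.trans R S (P →₀ S)
    obtain ⟨hflat, hstep⟩ := tensor_step L S R N (X := LinearMap.ker f)
      (F := P →₀ S) (P := P) (LinearMap.ker f).subtype f Subtype.val_injective hf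
      (LinearMap.exact_subtype_ker_map f)
    have hK := ih (LinearMap.ker f) ((PdLT.ker_iff f hf n).1 h)
    exact hstep n (hfree P) hK

end Bimodule

/-- A retraction of a pushout of finite projective dimension bounds the global dimension. -/
theorem pdLT_of_retraction (K C C' S' : Type u) [Field K] [CommRing C] [CommRing C'] [CommRing S']
    [Algebra K C] [Algebra K C'] [Algebra K S'] [Algebra C S'] [Algebra C' S'] [IsScalarTower K C S']
    [IsScalarTower K C' S'] [Algebra.IsPushout K C C' S'] [Algebra S' C] [IsScalarTower C S' C]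
    [IsScalarTower K S' C]
    (hbij : Function.Bijective fun z => algebraMap S' C (algebraMap C' S' z))
    (n : ℕ) (hC : PdLT S' C (n + 1)) (N : Type u) [AddCommGroup N] [Module C N] : PdLT C N (n + 1) := by
  letI algC : Algebra C' C := ((algebraMap S' C).comp (algebraMap C' S')).toAlgebra
  have : IsScalarTower C' S' C := IsScalarTower.of_algebraMap_eq fun z => rfl
  letI : Module C' N := Module.compHom N (algebraMap C' C)
  have : IsScalarTower C' C N := ⟨fun a b x => by rw [Algebra.smul_def, mul_smul]; rfl⟩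
  letI : Module K N := Module.compHom N (algebraMap K C)
  have hKC : ∀ k, algebraMap C' C (algebraMap K C' k) = algebraMap K C k := fun k => by
    show algebraMap S' C (algebraMap C' S' (algebraMap K C' k)) = _
    rw [← IsScalarTower.algebraMap_apply K C' S', ← IsScalarTower.algebraMap_apply K S' C]
  have : IsScalarTower K C' N := ⟨fun k c x => by
    show algebraMap C' C (k • c) • x = algebraMap K C k • (algebraMap C' C c • x)
    rw [Algebra.smul_def, map_mul, hKC, mul_smul]⟩
  have : Module.Flat C' C :=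
    Module.Flat.of_linearEquiv (LinearEquiv.ofBijective (Algebra.linearMap C' C) hbij).symm
  have hS' : Module.Flat C' S' := by
    have : Algebra.IsPushout K C' C S' := Algebra.IsPushout.symm inferInstance
    exact Module.Flat.of_linearEquiv (Algebra.IsPushout.equiv K C' C S').toLinearEquiv.symm
  have : Module.Projective C (S' ⊗[C'] N) :=
    Module.Projective.of_equiv (Algebra.IsPushout.cancelBaseChange K C C' S' N).symm
  have hN := pdLT_tensor C S' C' N n C hC
  let ε : C ⊗[C'] N →ₗ[C] N := (LinearMap.id : N →ₗ[C'] N).liftBaseChange C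
  have hε : Function.Bijective ε := by
    refine ⟨?_, fun x => ⟨1 ⊗ₜ x, by simp [ε]⟩⟩
    have hone : ∀ z : C ⊗[C'] N, (1 : C) ⊗ₜ[C'] ε z = z := by
      intro z
      induction z using TensorProduct.induction_on with
      | zero => simp
      | add a b ha hb => simp only [map_add, tmul_add, ha, hb]
      | tmul c x =>
        obtain ⟨c', rfl⟩ := hbij.2 c
        simp only [ε, LinearMap.liftBaseChange_tmul, LinearMap.id_apply]
        rw [show algebraMap S' C (algebraMap C' S' c') • x = c' • x from rfl, ← smul_tmul, Algebra.smul_def,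
          mul_one]
        rfl
    intro a b h
    rw [← hone a, h, hone]
  exact hN.of_equiv (LinearEquiv.ofBijective ε hε)

/-- The fibre has finite global dimension. -/
theorem pdLT_of_diagonal (A K B B' : Type u) [CommRing A] [Field K] [CommRing B] [CommRing B']
    [Algebra A K] [Algebra A B] [Algebra A B'] [Module.Flat A B] (e : B ≃ₐ[A] B') [Algebra (B ⊗[A] B') B]
    (hmul : ∀ (x : B) (y : B'), algebraMap (B ⊗[A] B') B (x ⊗ₜ[A] y) = x * e.symm y)
    (n : ℕ) (hpd : PdLT (B ⊗[A] B') B (n + 1))
    (N : Type u) [AddCommGroup N] [Module (K ⊗[A] B) N] : PdLT (K ⊗[A] B) N (n + 1) := by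
  letI : Algebra (K ⊗[A] B') ((K ⊗[A] B) ⊗[K] (K ⊗[A] B')) := Algebra.TensorProduct.rightAlgebra
  have : Module.Flat A B' := Module.Flat.of_linearEquiv e.symm.toLinearEquiv
  -- the base change of `B ⊗ B'` to `K`
  let inL : B →ₐ[A] ((K ⊗[A] B) ⊗[K] (K ⊗[A] B')) :=
    ((Algebra.TensorProduct.includeLeft : (K ⊗[A] B) →ₐ[K] _).restrictScalars A).comp
      Algebra.TensorProduct.includeRight
  let inR : B' →ₐ[A] ((K ⊗[A] B) ⊗[K] (K ⊗[A] B')) :=
    ((Algebra.TensorProduct.includeRight : (K ⊗[A] B') →ₐ[K] _).restrictScalars A).comp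
      Algebra.TensorProduct.includeRight
  let φ : B ⊗[A] B' →ₐ[A] ((K ⊗[A] B) ⊗[K] (K ⊗[A] B')) :=
    Algebra.TensorProduct.lift inL inR fun x y => .all _ _
  letI algS : Algebra (B ⊗[A] B') ((K ⊗[A] B) ⊗[K] (K ⊗[A] B')) := φ.toRingHom.toAlgebra
  have hφ : ∀ (x : B) (y : B'), algebraMap (B ⊗[A] B') ((K ⊗[A] B) ⊗[K] (K ⊗[A] B')) (x ⊗ₜ[A] y) =
      (1 ⊗ₜ[A] x) ⊗ₜ[K] (1 ⊗ₜ[A] y) := fun x y => by
    rw [RingHom.algebraMap_toAlgebra]
    show φ (x ⊗ₜ[A] y) = _
    simp [φ, inL, inR]
  have : IsScalarTower A (B ⊗[A] B') ((K ⊗[A] B) ⊗[K] (K ⊗[A] B')) :=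
    IsScalarTower.of_algebraMap_eq fun a => (φ.commutes a).symm
  have hpush : Algebra.IsPushout A K (B ⊗[A] B') ((K ⊗[A] B) ⊗[K] (K ⊗[A] B')) := ⟨IsBaseChange.of_equiv
    (TensorProduct.AlgebraTensorModule.distribBaseChange A K B B') fun x => by
      induction x using TensorProduct.induction_on with
      | zero => simp
      | add a b ha hb => simp only [tmul_add, map_add, ha, hb]
      | tmul x y =>
        rw [AlgHom.toLinearMap_apply, IsScalarTower.coe_toAlgHom', hφ]
        simp [TensorProduct.AlgebraTensorModule.distribBaseChange]⟩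
  have : IsScalarTower A (B ⊗[A] B') B := IsScalarTower.of_algebraMap_eq fun a => by
    rw [show algebraMap A (B ⊗[A] B') a = algebraMap A B a ⊗ₜ[A] 1 from rfl, hmul, map_one, mul_one]
  have hpd' := pdLT_baseChange_of_flat A K (B ⊗[A] B') ((K ⊗[A] B) ⊗[K] (K ⊗[A] B')) n B hpd
  -- identify the base change of `B`
  let ψ : (K ⊗[A] B') →ₐ[K] (K ⊗[A] B) := Algebra.TensorProduct.map (AlgHom.id K K) e.symm.toAlgHom
  let μ : ((K ⊗[A] B) ⊗[K] (K ⊗[A] B')) →ₐ[K] (K ⊗[A] B) :=
    Algebra.TensorProduct.lift (AlgHom.id K _) ψ fun x y => .all _ _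
  letI algμ : Algebra ((K ⊗[A] B) ⊗[K] (K ⊗[A] B')) (K ⊗[A] B) := μ.toRingHom.toAlgebra
  have hμ : ∀ z, algebraMap ((K ⊗[A] B) ⊗[K] (K ⊗[A] B')) (K ⊗[A] B) z = μ z := fun z => rfl
  have : IsScalarTower (B ⊗[A] B') ((K ⊗[A] B) ⊗[K] (K ⊗[A] B')) ((K ⊗[A] B) ⊗[K] (K ⊗[A] B')) := inferInstance
  letI algSC : Algebra (B ⊗[A] B') (K ⊗[A] B) := (μ.toRingHom.comp φ.toRingHom).toAlgebra
  letI : Module (B ⊗[A] B') ((K ⊗[A] B) ⊗[K] (K ⊗[A] B')) := algS.toModule
  letI : SMul (B ⊗[A] B') ((K ⊗[A] B) ⊗[K] (K ⊗[A] B')) := algS.toSMul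
  have : IsScalarTower (B ⊗[A] B') ((K ⊗[A] B) ⊗[K] (K ⊗[A] B')) (K ⊗[A] B) :=
    IsScalarTower.of_algebraMap_eq fun z => rfl
  have hSC : ∀ (x : B) (y : B'), algebraMap (B ⊗[A] B') (K ⊗[A] B) (x ⊗ₜ[A] y) = 1 ⊗ₜ[A] (x * e.symm y) :=
    fun x y => by
    show μ (φ (x ⊗ₜ[A] y)) = _
    simp [φ, inL, inR, μ, ψ]
  let j : B →ₗ[B ⊗[A] B'] (K ⊗[A] B) :=
    { toFun := fun b => 1 ⊗ₜ[A] b
      map_add' := fun a b => tmul_add _ _ _
      map_smul' := fun z b => by
        induction z using TensorProduct.induction_on with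
        | zero => simp
        | add s t hs ht => simp only [add_smul, tmul_add, hs, ht, RingHom.id_apply] at *
        | tmul x y =>
          rw [Algebra.smul_def, hmul, RingHom.id_apply, Algebra.smul_def, hSC,
            Algebra.TensorProduct.tmul_mul_tmul, one_mul] }
  let J := j.liftBaseChange ((K ⊗[A] B) ⊗[K] (K ⊗[A] B'))
  have hJ : ∀ z : K ⊗[A] B,
      J ((Algebra.IsPushout.cancelBaseChange A K (B ⊗[A] B') ((K ⊗[A] B) ⊗[K] (K ⊗[A] B')) B).symm z) = z := by
    intro z
    induction z using TensorProduct.induction_on with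
    | zero => simp
    | add a b ha hb => simp only [map_add, ha, hb]
    | tmul k b =>
      rw [Algebra.IsPushout.cancelBaseChange_symm_tmul, LinearMap.liftBaseChange_tmul, Algebra.smul_def, hμ,
        μ.commutes]
      show algebraMap K (K ⊗[A] B) k * (1 ⊗ₜ[A] b) = _
      simp
  have hJbij : Function.Bijective J := by
    refine ⟨fun a b h => ?_, fun z => ⟨_, hJ z⟩⟩
    obtain ⟨a, rfl⟩ := (Algebra.IsPushout.cancelBaseChange A K (B ⊗[A] B')
      ((K ⊗[A] B) ⊗[K] (K ⊗[A] B')) B).symm.surjective a
    obtain ⟨b, rfl⟩ := (Algebra.IsPushout.cancelBaseChange A K (B ⊗[A] B')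
      ((K ⊗[A] B) ⊗[K] (K ⊗[A] B')) B).symm.surjective b
    rw [hJ, hJ] at h
    rw [h]
  have hC : PdLT ((K ⊗[A] B) ⊗[K] (K ⊗[A] B')) (K ⊗[A] B) (n + 1) :=
    hpd'.of_equiv (LinearEquiv.ofBijective J hJbij)
  have : IsScalarTower (K ⊗[A] B) ((K ⊗[A] B) ⊗[K] (K ⊗[A] B')) (K ⊗[A] B) := ⟨fun a b c => by
    show μ (a • b) * c = a * (μ b * c)
    have hab : μ (a • b) = a * μ b := by
      induction b using TensorProduct.induction_on with
      | zero => simp
      | add s t hs ht => simp only [smul_add, map_add, hs, ht, mul_add]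
      | tmul s t => simp [μ, TensorProduct.smul_tmul', mul_assoc]
    rw [hab, mul_assoc]⟩
  have : IsScalarTower K ((K ⊗[A] B) ⊗[K] (K ⊗[A] B')) (K ⊗[A] B) :=
    IsScalarTower.of_algebraMap_eq fun k => (μ.commutes k).symm
  refine pdLT_of_retraction K (K ⊗[A] B) (K ⊗[A] B') ((K ⊗[A] B) ⊗[K] (K ⊗[A] B')) ?_ n hC N
  have h : (fun z => algebraMap ((K ⊗[A] B) ⊗[K] (K ⊗[A] B')) (K ⊗[A] B)
      (algebraMap (K ⊗[A] B') ((K ⊗[A] B) ⊗[K] (K ⊗[A] B')) z)) = ψ := funext fun z => by
    rw [hμ, show algebraMap (K ⊗[A] B') ((K ⊗[A] B) ⊗[K] (K ⊗[A] B')) z = 1 ⊗ₜ[K] z from rfl]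
    simp [μ]
  rw [h]
  exact (Algebra.TensorProduct.congr (AlgEquiv.refl (R := K) (A₁ := K)) e.symm).bijective

end Groth.FrobLCI.Diag
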