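import Groth.Agent.FrobLCI.Diag.FibreGlobalDim
import Groth.Agent.EtaleAlgebra.TorDimAscend
import Groth.Agent.Ega4Algebra1.RegularLocal
import Groth.Agent.Calg4.SmoothRegularField
import Groth.Agent.PropsBasic.LociBaseChange.Alg

/-!
A flat local algebra with perfect diagonal is a localization of a smooth algebra.
-/

universe u

open TensorProduct IsLocalRing
open Groth.Ega4Algebra1

namespace Groth.FrobLCI.Diag

/-- Over a Noetherian ring a finite module of tor dimension `≤ n` has projective dimension `≤ n`. -/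
theorem pdLT_of_hasTorDimLE (S : Type u) [CommRing S] [IsNoetherianRing S] :
    ∀ (n : ℕ) (M : Type u) [AddCommGroup M] [Module S M] [Module.Finite S M],
      DRing.HasTorDimLE S n M → PdLT S M (n + 1) := by
  intro n
  induction n with
  | zero =>
    intro M _ _ _ h
    rw [PdLT.one_iff]
    have := Groth.EtaleAlgebra.flat_of_hasTorDimLE_zero M h
    have : Module.FinitePresentation S M := Module.finitePresentation_of_finite S M
    exact Module.Flat.projective_of_finitePresentation
  | succ n ih =>
    intro M _ _ _ h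
    obtain ⟨m, f, hf⟩ := Module.Finite.exists_fin' S M
    exact (PdLT.ker_iff f hf n).2 (ih _ (Groth.EtaleAlgebra.hasTorDimLE_kernel (LinearMap.ker f).subtype f
      Subtype.val_injective (LinearMap.exact_subtype_ker_map f) hf h))

/-- The fibres of a flat algebra with diagonal of finite tor dimension are regular. -/
theorem isRegularLocalRing_fibre (A K B : Type u) [CommRing A] [Field K] [CommRing B] [IsNoetherianRing B]
    [Algebra A K] [Algebra A B] [Module.Flat A B] [Algebra.EssFiniteType A B] [Algebra (B ⊗[A] B) B]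
    (hmul : ∀ x y : B, algebraMap (B ⊗[A] B) B (x ⊗ₜ[A] y) = x * y)
    (h : DRing.HasFiniteTorDim (B ⊗[A] B) B) (Q : Ideal (K ⊗[A] B)) [Q.IsPrime] :
    IsRegularLocalRing (Localization.AtPrime Q) := by
  obtain ⟨n, hn⟩ := h
  have : IsNoetherianRing (B ⊗[A] B) := Algebra.EssFiniteType.isNoetherianRing B _
  have : IsNoetherianRing (K ⊗[A] B) := Algebra.EssFiniteType.isNoetherianRing K _
  have : Module.Finite (B ⊗[A] B) B := Module.Finite.of_surjective (Algebra.linearMap (B ⊗[A] B) B)
    fun b => ⟨b ⊗ₜ[A] 1, by rw [Algebra.linearMap_apply, hmul, mul_one]⟩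
  have hpd := pdLT_of_diagonal A K B B AlgEquiv.refl hmul n (pdLT_of_hasTorDimLE _ n B hn)
    ((K ⊗[A] B) ⧸ Q)
  have : Module.Flat (K ⊗[A] B) (Localization.AtPrime Q) := IsLocalization.flat _ Q.primeCompl
  have hpd' := PdLT.baseChange (B := Localization.AtPrime Q) (n + 1) hpd
  have hmax : Q.map (algebraMap (K ⊗[A] B) (Localization.AtPrime Q)) = maximalIdeal (Localization.AtPrime Q) :=
    Localization.AtPrime.map_eq_maximalIdeal
  have : Nontrivial (Localization.AtPrime Q ⊗[K ⊗[A] B] ((K ⊗[A] B) ⧸ Q)) := by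
    have : Nontrivial (Localization.AtPrime Q ⧸ Q.map (algebraMap (K ⊗[A] B) (Localization.AtPrime Q))) := by
      rw [hmax]
      exact Ideal.Quotient.nontrivial_iff.mpr (maximalIdeal.isMaximal _).ne_top
    exact (Algebra.TensorProduct.quotIdealMapEquivTensorQuot (Localization.AtPrime Q) Q).symm.toEquiv.nontrivial
  refine isRegularLocalRing_of_pdLT _ (Localization.AtPrime Q ⊗[K ⊗[A] B] ((K ⊗[A] B) ⧸ Q))
    (fun y hy z => ?_) n hpd'
  have hkill : ∀ (y : Localization.AtPrime Q), y ∈ Q.map (algebraMap (K ⊗[A] B) (Localization.AtPrime Q)) →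
      ∀ x : (K ⊗[A] B) ⧸ Q, y ⊗ₜ[K ⊗[A] B] x = 0 := by
    intro y hy
    refine Submodule.span_induction (fun y hy x => ?_) (fun x => zero_tmul _ _)
      (fun a b _ _ ha hb x => by rw [add_tmul, ha, hb, add_zero])
      (fun a b _ hb x => by
        rw [← TensorProduct.smul_tmul', hb, smul_zero]) hy
    obtain ⟨c, hc, rfl⟩ := hy
    obtain ⟨x, rfl⟩ := Ideal.Quotient.mk_surjective x
    rw [Algebra.algebraMap_eq_smul_one, smul_tmul]
    have h0 : c • (Ideal.Quotient.mk Q x) = 0 := by
      show Ideal.Quotient.mk Q (c * x) = 0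
      exact Ideal.Quotient.eq_zero_iff_mem.mpr (Q.mul_mem_right _ hc)
    rw [h0, tmul_zero]
  induction z using TensorProduct.induction_on with
  | zero => simp
  | add a b ha hb => rw [smul_add, ha, hb, add_zero]
  | tmul a x =>
    rw [TensorProduct.smul_tmul', smul_eq_mul]
    exact hkill _ (Ideal.mul_mem_right _ _ (hmax ▸ hy)) x

/-- Base change of a localization. -/
theorem isLocalization_baseChange (A K D B : Type u) [CommRing A] [CommRing K] [CommRing D] [CommRing B]
    [Algebra A K] [Algebra A D] [Algebra A B] [Algebra D B] [IsScalarTower A D B]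
    (M : Submonoid D) [IsLocalization M B] :
    letI : Algebra (K ⊗[A] D) (K ⊗[A] B) :=
      (Algebra.TensorProduct.map (AlgHom.id K K) (IsScalarTower.toAlgHom A D B)).toRingHom.toAlgebra
    IsLocalization (M.map (Algebra.TensorProduct.includeRight : D →ₐ[A] K ⊗[A] D).toRingHom) (K ⊗[A] B) := by
  letI : Algebra (K ⊗[A] D) (K ⊗[A] B) :=
    (Algebra.TensorProduct.map (AlgHom.id K K) (IsScalarTower.toAlgHom A D B)).toRingHom.toAlgebra
  letI algD : Algebra D (K ⊗[A] D) := Algebra.TensorProduct.rightAlgebra
  letI algB : Algebra B (K ⊗[A] B) := Algebra.TensorProduct.rightAlgebra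
  letI algDB : Algebra D (K ⊗[A] B) :=
    ((algebraMap B (K ⊗[A] B)).comp (algebraMap D B)).toAlgebra
  have : IsScalarTower D B (K ⊗[A] B) := IsScalarTower.of_algebraMap_eq fun d => rfl
  have : IsScalarTower D (K ⊗[A] D) (K ⊗[A] B) := IsScalarTower.of_algebraMap_eq fun d => by
    show (1 : K) ⊗ₜ[A] algebraMap D B d =
      Algebra.TensorProduct.map (AlgHom.id K K) (IsScalarTower.toAlgHom A D B) ((1 : K) ⊗ₜ[A] d)
    simp
  have : IsScalarTower K (K ⊗[A] D) (K ⊗[A] B) := IsScalarTower.of_algebraMap_eq fun k =>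
    ((Algebra.TensorProduct.map (AlgHom.id K K) (IsScalarTower.toAlgHom A D B)).commutes k).symm
  have : IsScalarTower A (K ⊗[A] D) (K ⊗[A] B) := IsScalarTower.of_algebraMap_eq fun a =>
    (((Algebra.TensorProduct.map (AlgHom.id K K) (IsScalarTower.toAlgHom A D B)).restrictScalars A).commutes a).symm
  have h : Algebra.IsPushout D B (K ⊗[A] D) (K ⊗[A] B) :=
    (Algebra.IsPushout.comp_iff (R := A) (S := D) (R' := K) (S' := K ⊗[A] D) (T := B) (T' := K ⊗[A] B)).mp
      inferInstance
  exact (Algebra.isLocalization_iff_isPushout (R := D) (S := M) (A := B) (T := K ⊗[A] D) (B := K ⊗[A] B)).mpr h.symm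

/-- A local flat algebra with diagonal of finite tor dimension is smooth at its closed point. -/
theorem isSmoothAt_of_diagonal (A B D : Type u) [CommRing A] [CommRing B] [CommRing D] [IsNoetherianRing A]
    [IsNoetherianRing B] [IsLocalRing A] [IsLocalRing B] [Algebra A B] [IsLocalHom (algebraMap A B)]
    [Module.Flat A B] [Algebra.EssFiniteType A B] [Algebra (B ⊗[A] B) B]
    (hmul : ∀ x y : B, algebraMap (B ⊗[A] B) B (x ⊗ₜ[A] y) = x * y)
    (h : DRing.HasFiniteTorDim (B ⊗[A] B) B)
    [Algebra A D] [Algebra D B] [IsScalarTower A D B] [Algebra.FiniteType A D]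
    [IsLocalization.AtPrime B ((maximalIdeal B).comap (algebraMap D B))] :
    Algebra.IsSmoothAt A ((maximalIdeal B).comap (algebraMap D B)) := by
  set q := (maximalIdeal B).comap (algebraMap D B) with hq
  have : Algebra.FinitePresentation A D := Algebra.FinitePresentation.of_finiteType.mp ‹_›
  have hpq : q.LiesOver (maximalIdeal A) := ⟨by
    rw [Ideal.under_def, hq, Ideal.comap_comap, ← IsScalarTower.algebraMap_eq]
    ext a
    simp [IsLocalRing.mem_maximalIdeal, mem_nonunits_iff]⟩
  have : Module.Flat A (Localization.AtPrime q) := Module.Flat.of_linearEquiv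
    (((IsLocalization.algEquiv q.primeCompl (Localization.AtPrime q) B).restrictScalars A).toLinearEquiv)
  have hker : ∀ a : maximalIdeal A, algebraMap A (ResidueField B) a = 0 := fun a => by
    rw [IsScalarTower.algebraMap_apply A B (ResidueField B), ResidueField.algebraMap_eq, residue_eq_zero_iff,
      IsLocalRing.mem_maximalIdeal, mem_nonunits_iff, isUnit_map_iff]
    exact a.2
  have hunit : (maximalIdeal A).primeCompl ≤ Submonoid.comap (algebraMap A (ResidueField B))
      (IsUnit.submonoid (ResidueField B)) := fun a ha => by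
    show IsUnit (algebraMap A (ResidueField B) a)
    exact (not_not.mp (fun hn => ha ((IsLocalRing.mem_maximalIdeal a).mpr hn))).map _
  let kK := Ideal.ResidueField.lift (maximalIdeal A) (algebraMap A (ResidueField B))
    (fun a ha => RingHom.mem_ker.mpr (hker ⟨a, ha⟩)) hunit
  letI : Algebra (maximalIdeal A).ResidueField (ResidueField B) := kK.toAlgebra
  have : IsScalarTower A (maximalIdeal A).ResidueField (ResidueField B) :=
    IsScalarTower.of_algebraMap_eq fun a => by
      rw [RingHom.algebraMap_toAlgebra]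
      exact (Ideal.ResidueField.lift_algebraMap ..).symm
  -- the fibre over the residue field of `B`
  let g := Algebra.TensorProduct.map (AlgHom.id (ResidueField B) (ResidueField B)) (IsScalarTower.toAlgHom A D B)
  letI : Algebra (ResidueField B ⊗[A] D) (ResidueField B ⊗[A] B) := g.toRingHom.toAlgebra
  have hloc := isLocalization_baseChange A (ResidueField B) D B q.primeCompl
  let π : ResidueField B ⊗[A] B →ₐ[ResidueField B] ResidueField B :=
    Algebra.TensorProduct.lift (Algebra.ofId _ _) (IsScalarTower.toAlgHom A B (ResidueField B)) fun x y => .all _ _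
  have hπ : ∀ d : D, π (g (1 ⊗ₜ d)) = residue B (algebraMap D B d) := fun d => by simp [π, g]
  let Qb := RingHom.ker π.toRingHom
  have hQb : Qb.IsPrime := RingHom.ker_isPrime _
  have hreg := isRegularLocalRing_fibre A (ResidueField B) B hmul h Qb
  let Qd := Qb.comap (algebraMap (ResidueField B ⊗[A] D) (ResidueField B ⊗[A] B))
  have := IsLocalization.isLocalization_isLocalization_atPrime_isLocalization
    (q.primeCompl.map (Algebra.TensorProduct.includeRight : D →ₐ[A] ResidueField B ⊗[A] D).toRingHom)
    (Localization.AtPrime Qb) Qb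
  have : IsRegularLocalRing (Localization.AtPrime Qd) := IsRegularLocalRing.of_ringEquiv
    (IsLocalization.algEquiv Qd.primeCompl (Localization.AtPrime Qb) (Localization.AtPrime Qd)).toRingEquiv
  let πd : ResidueField B ⊗[A] D →ₐ[ResidueField B] ResidueField B := π.comp g
  have hπd : Function.Surjective πd := fun k => ⟨algebraMap _ _ k, πd.commutes k⟩
  have hQd : ∀ z, z ∈ Qd ↔ πd z = 0 := fun z => Iff.rfl
  have hQdmax : Qd.IsMaximal := by
    have : Qd = RingHom.ker πd.toRingHom := Ideal.ext hQd
    rw [this]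
    exact RingHom.ker_isMaximal_of_surjective _ hπd
  have hKQ : Function.Bijective (algebraMap (ResidueField B) Qd.ResidueField) := by
    have h1 : Function.Bijective (algebraMap (ResidueField B) (_ ⧸ Qd)) := by
      refine ⟨RingHom.injective _, fun z => ?_⟩
      obtain ⟨z, rfl⟩ := Ideal.Quotient.mk_surjective z
      refine ⟨πd z, Ideal.Quotient.eq.mpr ((hQd _).mpr ?_)⟩
      rw [map_sub, AlgHom.commutes]
      simp
    rw [IsScalarTower.algebraMap_eq (ResidueField B) (_ ⧸ Qd) Qd.ResidueField, RingHom.coe_comp]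
    exact (Ideal.bijective_algebraMap_quotient_residueField Qd).comp h1
  have : Algebra.FormallySmooth (ResidueField B) Qd.ResidueField :=
    Algebra.FormallySmooth.of_equiv (AlgEquiv.ofBijective (Algebra.ofId (ResidueField B) Qd.ResidueField) hKQ)
  have hsmK : Algebra.IsSmoothAt (ResidueField B) Qd :=
    Groth.Calg4.isSmoothAt_of_isRegularLocalRing (k := ResidueField B) Qd
  -- descend to the fibre
  let e : ResidueField B ⊗[(maximalIdeal A).ResidueField] ((maximalIdeal A).Fiber D) ≃ₐ[ResidueField B]
      ResidueField B ⊗[A] D :=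
    Algebra.TensorProduct.cancelBaseChange A (maximalIdeal A).ResidueField (ResidueField B) (ResidueField B) D
  have := Groth.PropsBasic.Loci.isSmoothAt_comap_algEquiv (T := ResidueField B)
    (P := ResidueField B ⊗[(maximalIdeal A).ResidueField] ((maximalIdeal A).Fiber D))
    (P' := ResidueField B ⊗[A] D) e Qd
  have : Algebra.FinitePresentation (maximalIdeal A).ResidueField ((maximalIdeal A).Fiber D) := inferInstance
  letI : Algebra ((maximalIdeal A).Fiber D)
      (ResidueField B ⊗[(maximalIdeal A).ResidueField] ((maximalIdeal A).Fiber D)) :=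
    Algebra.TensorProduct.rightAlgebra
  have hsmf := Groth.PropsBasic.Loci.isSmoothAt_of_tensorProduct (R := (maximalIdeal A).ResidueField)
    (T := ResidueField B) (S := (maximalIdeal A).Fiber D) (Qd.comap e.toRingEquiv)
  refine Groth.PropsBasic.Loci.isSmoothAt_of_flat_of_fiber (maximalIdeal A) q
    ((Qd.comap e.toRingEquiv).comap (algebraMap ((maximalIdeal A).Fiber D)
      (ResidueField B ⊗[(maximalIdeal A).ResidueField] ((maximalIdeal A).Fiber D)))) ?_
  ext d
  have he : e ((1 : ResidueField B) ⊗ₜ[(maximalIdeal A).ResidueField] ((1 : (maximalIdeal A).ResidueField) ⊗ₜ[A] d)) =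
      (1 : ResidueField B) ⊗ₜ[A] d := by simp [e]
  show e ((1 : ResidueField B) ⊗ₜ[(maximalIdeal A).ResidueField]
      ((1 : (maximalIdeal A).ResidueField) ⊗ₜ[A] d)) ∈ Qd ↔ d ∈ q
  rw [he, hQd]
  show π (g (1 ⊗ₜ d)) = 0 ↔ _
  rw [hπ, residue_eq_zero_iff]
  rfl

end Groth.FrobLCI.Diag
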